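import Mathlib

/-! helper2: existence of a valuation ring testing a non-unit against a nonzerodivisor. -/

set_option autoImplicit false
set_option backward.isDefEq.respectTransparency.types false
set_option synthInstance.maxHeartbeats 400000
set_option maxHeartbeats 4000000
set_option linter.style.haveILetI false
set_option linter.unusedSectionVars false
set_option linter.unusedVariables false
set_option linter.unusedSimpArgs false
set_option linter.unnecessarySimpa false

universe u

namespace Groth.Agent.Helper2.ModPairV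

/-- an ideal maximal among those disjoint from a submonoid. -/
theorem exists_maximal_disjoint {V : Type u} [CommRing V] (S : Submonoid V)
    (h0 : (0 : V) ∉ S) :
    ∃ p : Ideal V, p.IsPrime ∧ Disjoint (p : Set V) (S : Set V) ∧
      ∀ J : Ideal V, p < J → ¬ Disjoint (J : Set V) (S : Set V) := by
  have hbot : Disjoint ((⊥ : Ideal V) : Set V) (S : Set V) := by
    rw [Set.disjoint_left]
    intro x hx hxS
    rw [SetLike.mem_coe, Ideal.mem_bot] at hx
    subst hx
    exact h0 hxS
  have ⟨p, _, hp⟩ := zorn_le_nonempty₀ {p : Ideal V | Disjoint (p : Set V) (S : Set V)}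
    (fun c hc hc' x hx ↦ ?_) ⊥ hbot
  · exact ⟨p, Ideal.isPrime_of_maximally_disjoint _ _ hp.1 (fun _ ↦ hp.not_prop_of_gt), hp.1,
      fun _ ↦ hp.not_prop_of_gt⟩
  cases isEmpty_or_nonempty c
  · exact ⟨⊥, hbot, fun J hJ ↦ isEmptyElim (⟨J, hJ⟩ : c)⟩
  refine ⟨sSup c, Set.disjoint_left.mpr fun x hx ↦ ?_, fun _ ↦ le_sSup⟩
  have ⟨p, hp⟩ := (Submodule.mem_iSup_of_directed _ hc'.directed).mp (sSup_eq_iSup' c ▸ hx)
  exact Set.disjoint_left.mp (hc p.2) hp

theorem exists_valuationRing (A : Type u) [CommRing A] (a c : A) (ha : a ∈ nonZeroDivisors A)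
    (hc : ¬ IsUnit c) :
    ∃ (R : Type u) (_ : CommRing R) (_ : IsDomain R) (_ : ValuationRing R) (ψ : A →+* R),
      ψ a ≠ 0 ∧ ¬ IsUnit (ψ c) ∧ ∀ P : Ideal R, P.IsPrime → P ≠ ⊥ → ψ a ∈ P := by
  obtain ⟨q, hq, hcq⟩ := exists_max_ideal_of_mem_nonunits (show c ∈ nonunits A from hc)
  haveI : q.IsPrime := hq.isPrime
  let L := Localization.AtPrime q
  -- `a` is not nilpotent in `L`
  have hpow : ∀ n : ℕ, (algebraMap A L a) ^ n ≠ 0 := by
    intro n hn
    rw [← map_pow, IsLocalization.map_eq_zero_iff q.primeCompl] at hn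
    obtain ⟨s, hs⟩ := hn
    have hnzd : a ^ n ∈ nonZeroDivisors A := pow_mem ha n
    have : (s : A) = 0 := (mem_nonZeroDivisors_iff_right.mp hnzd) _ hs
    exact s.2 (this ▸ q.zero_mem)
  obtain ⟨P, hP, -, hPd⟩ := Ideal.exists_le_prime_disjoint (⊥ : Ideal L)
    (Submonoid.powers (algebraMap A L a)) (by
      rw [Set.disjoint_left]
      intro x hx hxS
      rw [SetLike.mem_coe, Ideal.mem_bot] at hx
      subst hx
      obtain ⟨n, hn⟩ := hxS
      exact hpow n hn)
  haveI := hP
  have haP : algebraMap A L a ∉ P :=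
    Set.disjoint_right.mp hPd (Submonoid.mem_powers _)
  let K := P.ResidueField
  let f : L →+* K := algebraMap L K
  have hfa : f (algebraMap A L a) ≠ 0 := by
    intro h0
    exact haP ((Ideal.algebraMap_residueField_eq_zero).mp h0)
  obtain ⟨V, hV, hloc⟩ := IsLocalRing.exists_factor_valuationRing f
  let g : L →+* V := f.codRestrict V.toSubring hV
  have hga : g (algebraMap A L a) ≠ 0 := by
    intro h0
    apply hfa
    have := congrArg (fun x : V => (x : K)) h0
    exact this
  have hgc : ¬ IsUnit (g (algebraMap A L c)) := by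
    intro hu
    have h1 : IsUnit (algebraMap A L c) := hloc.map_nonunit _ hu
    have h2 : algebraMap A L c ∈ IsLocalRing.maximalIdeal L :=
      (IsLocalization.AtPrime.to_map_mem_maximal_iff L q c).mpr hcq
    exact h2 h1
  -- the largest prime of `V` not containing the image of `a`
  set a' : V := g (algebraMap A L a) with ha'
  have h0S : (0 : V) ∉ Submonoid.powers a' := by
    rintro ⟨n, hn⟩
    exact pow_ne_zero n hga hn
  obtain ⟨p, hp, hpd, hpmax⟩ := exists_maximal_disjoint (Submonoid.powers a') h0S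
  haveI := hp
  have ha'p : a' ∉ p := Set.disjoint_right.mp hpd (Submonoid.mem_powers _)
  refine ⟨V ⧸ p, inferInstance, inferInstance,
    Function.Surjective.valuationRing (Ideal.Quotient.mk p) Ideal.Quotient.mk_surjective,
    (Ideal.Quotient.mk p).comp (g.comp (algebraMap A L)), ?_, ?_, ?_⟩
  · intro h0
    exact ha'p (Ideal.Quotient.eq_zero_iff_mem.mp h0)
  · intro hu
    apply hgc
    -- a unit modulo `p` is a unit in the local ring `V`
    obtain ⟨y, hy⟩ := isUnit_iff_exists_inv.mp hu
    obtain ⟨y, rfl⟩ := Ideal.Quotient.mk_surjective y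
    have h1 : g (algebraMap A L c) * y - 1 ∈ p := by
      rw [← Ideal.Quotient.eq_zero_iff_mem, map_sub, map_mul, map_one, sub_eq_zero]
      exact hy
    by_contra hnu
    have h2 : g (algebraMap A L c) ∈ IsLocalRing.maximalIdeal V := hnu
    have h3 : p ≤ IsLocalRing.maximalIdeal V := IsLocalRing.le_maximalIdeal hp.ne_top
    have h4 : (1 : V) ∈ IsLocalRing.maximalIdeal V := by
      have := (IsLocalRing.maximalIdeal V).sub_mem
        ((IsLocalRing.maximalIdeal V).mul_mem_right y h2) (h3 h1)
      simpa using this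
    exact (Ideal.ne_top_iff_one _).mp (IsLocalRing.maximalIdeal.isMaximal V).ne_top h4
  · intro Q hQ hQ0
    haveI := hQ
    have hle : p ≤ Q.comap (Ideal.Quotient.mk p) := by
      intro x hx
      rw [Ideal.mem_comap, Ideal.Quotient.eq_zero_iff_mem.mpr hx]
      exact Q.zero_mem
    have hne : p ≠ Q.comap (Ideal.Quotient.mk p) := by
      intro he
      apply hQ0
      rw [eq_bot_iff]
      intro x hx
      obtain ⟨x, rfl⟩ := Ideal.Quotient.mk_surjective x
      have : x ∈ p := by rw [he]; exact hx
      rw [Ideal.mem_bot]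
      exact Ideal.Quotient.eq_zero_iff_mem.mpr this
    have hnd := hpmax _ (lt_of_le_of_ne hle hne)
    rw [Set.not_disjoint_iff] at hnd
    obtain ⟨x, hxQ, ⟨n, rfl⟩⟩ := hnd
    have : a' ∈ Q.comap (Ideal.Quotient.mk p) := (Ideal.IsPrime.mem_of_pow_mem inferInstance n hxQ)
    exact this

end Groth.Agent.Helper2.ModPairV
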