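import Mathlib
import Groth.Prelude.Def_W4c6modpairsegaMP
import Groth.Agent.Lib.Helper4.IdealComap
import Groth.Agent.Lib.Helper4.EffCartier
import Groth.Agent.Lib.Helper2.ModPairV.Alg

/-! helper2: two effective Cartier ideals `J ≤ I` agree as soon as they agree after pull-back to
all valuation rings meeting the divisor properly (S19335). -/

set_option autoImplicit false
set_option backward.isDefEq.respectTransparency.types false
set_option synthInstance.maxHeartbeats 400000
set_option maxHeartbeats 4000000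
set_option linter.style.haveILetI false
set_option linter.unusedSectionVars false
set_option linter.unusedVariables false
set_option linter.unusedSimpArgs false
set_option linter.unnecessarySimpa false

open CategoryTheory CategoryTheory.Limits AlgebraicGeometry TopologicalSpace

universe u

namespace Groth.Agent.Helper2.ModPairV

open Groth.Agent.Helper4

variable {X : Scheme.{u}}

/-- the map on sections of `Spec R ⟶ Spec Γ(X,U) ⟶ X`. -/
theorem appLE_specMap_fromSpec {U : X.Opens} (hU : IsAffineOpen U) {R : CommRingCat.{u}}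
    (ψ : Γ(X, U) ⟶ R) (e : (⊤ : (Spec R).Opens) ≤ (Spec.map ψ ≫ hU.fromSpec) ⁻¹ᵁ U) :
    (Spec.map ψ ≫ hU.fromSpec).appLE U ⊤ e = ψ ≫ (Scheme.ΓSpecIso R).inv := by
  apply Spec.map_injective
  rw [← cancel_mono hU.fromSpec,
    IsAffineOpen.SpecMap_appLE_fromSpec (Spec.map ψ ≫ hU.fromSpec) hU (isAffineOpen_top _) e,
    IsAffineOpen.fromSpec_top, Scheme.isoSpec_Spec_inv, Spec.map_comp, Category.assoc]

theorem local_claim (I J : X.IdealSheafData) (hJI : J ≤ I)
    (h : ∀ (R : Type u) [CommRing R] [IsDomain R] [ValuationRing R]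
      (p : Spec (CommRingCat.of R) ⟶ X), BlowUp.IsEffCartierIdeal (I.comap p) →
        (∀ x : Spec (CommRingCat.of R),
          x ∈ (ModPair.interior (I.comap p) : Set (Spec (CommRingCat.of R))) ↔ x.asIdeal = ⊥) →
        I.comap p = J.comap p)
    (U : X.affineOpens) (a b : Γ(X, U.1)) (ha : a ∈ nonZeroDivisors Γ(X, U.1))
    (hIa : I.ideal U = Ideal.span {a}) (hJb : J.ideal U = Ideal.span {b}) :
    I.ideal U ≤ J.ideal U := by
  have hb : b ∈ Ideal.span {a} := by
    rw [← hIa]
    apply hJI U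
    rw [hJb]
    exact Ideal.mem_span_singleton_self b
  obtain ⟨c, rfl⟩ := Ideal.mem_span_singleton.mp hb
  suffices hc : IsUnit c by
    rw [hIa, hJb]
    obtain ⟨u, rfl⟩ := hc
    rw [Ideal.span_singleton_mul_right_unit u.isUnit]
  by_contra hc
  obtain ⟨R, _, _, _, ψ, h1, h2, h3⟩ := exists_valuationRing Γ(X, U.1) a c ha hc
  let ψc : Γ(X, U.1) ⟶ CommRingCat.of R := CommRingCat.ofHom ψ
  let p : Spec (CommRingCat.of R) ⟶ X := Spec.map ψc ≫ U.2.fromSpec
  have e : (⊤ : (Spec (CommRingCat.of R)).Opens) ≤ p ⁻¹ᵁ U.1 := by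
    intro y _
    change (Spec.map ψc ≫ U.2.fromSpec) y ∈ U.1
    have : (Spec.map ψc ≫ U.2.fromSpec) y ∈ Set.range U.2.fromSpec := ⟨Spec.map ψc y, rfl⟩
    rwa [IsAffineOpen.range_fromSpec] at this
  have hψ' : p.appLE U.1 ⊤ e = ψc ≫ (Scheme.ΓSpecIso (CommRingCat.of R)).inv :=
    appLE_specMap_fromSpec U.2 ψc e
  let T : (Spec (CommRingCat.of R)).affineOpens := ⟨⊤, isAffineOpen_top _⟩
  let φ : Γ(Spec (CommRingCat.of R), ⊤) ⟶ CommRingCat.of R :=
    (Scheme.ΓSpecIso (CommRingCat.of R)).hom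
  have hφ : ∀ z : Γ(X, U.1), φ.hom ((p.appLE U.1 ⊤ e).hom z) = ψ z := by
    intro z
    rw [hψ']
    change ((ψc ≫ (Scheme.ΓSpecIso (CommRingCat.of R)).inv) ≫
      (Scheme.ΓSpecIso (CommRingCat.of R)).hom).hom z = ψ z
    rw [Category.assoc, Iso.inv_hom_id, Category.comp_id]
    rfl
  have hφinj : Function.Injective φ.hom :=
    (ConcreteCategory.bijective_of_isIso φ).injective
  have hcomapI : (I.comap p).ideal T = Ideal.span {(p.appLE U.1 ⊤ e).hom a} := by
    rw [IdealComap.ideal_comap_eq_map p I T U e, hIa, Ideal.map_span, Set.image_singleton]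
  have hcomapJ : (J.comap p).ideal T = Ideal.span {(p.appLE U.1 ⊤ e).hom (a * c)} := by
    rw [IdealComap.ideal_comap_eq_map p J T U e, hJb, Ideal.map_span, Set.image_singleton]
  have hne : (p.appLE U.1 ⊤ e).hom a ≠ 0 := by
    intro h0
    apply h1
    rw [← hφ a, h0, map_zero]
  have hnzd : (p.appLE U.1 ⊤ e).hom a ∈ nonZeroDivisors Γ(Spec (CommRingCat.of R), ⊤) := by
    rw [mem_nonZeroDivisors_iff_right]
    intro s hs
    apply hφinj
    rw [map_zero]
    have := congrArg φ.hom hs
    rw [map_mul, hφ a, map_zero] at this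
    exact (mul_eq_zero.mp this).resolve_right h1
  have hEff : BlowUp.IsEffCartierIdeal (I.comap p) := by
    intro y
    exact ⟨T, trivial, _, hnzd, hcomapI⟩
  have hint : ∀ y : Spec (CommRingCat.of R),
      y ∈ (ModPair.interior (I.comap p) : Set (Spec (CommRingCat.of R))) ↔ y.asIdeal = ⊥ := by
    intro y
    have hm := EffCartier.mem_basicOpen_iff_not_mem_support T _ hcomapI y trivial
    have hb' : (Spec (CommRingCat.of R)).basicOpen ((p.appLE U.1 ⊤ e).hom a) =
        PrimeSpectrum.basicOpen (ψ a) := by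
      rw [basicOpen_eq_of_affine']
      congr 1
      exact hφ a
    rw [hb'] at hm
    change y ∉ (I.comap p).support ↔ _
    rw [← hm]
    change ψ a ∉ y.asIdeal ↔ _
    constructor
    · intro hy
      by_contra hne0
      exact hy (h3 y.asIdeal y.isPrime hne0)
    · intro hy
      rw [hy, Ideal.mem_bot]
      exact h1
  have heq := h R p hEff hint
  have h4 : (p.appLE U.1 ⊤ e).hom a ∈ (J.comap p).ideal T := by
    rw [← heq, hcomapI]
    exact Ideal.mem_span_singleton_self _
  rw [hcomapJ, Ideal.mem_span_singleton] at h4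
  obtain ⟨d, hd⟩ := h4
  have h5 := congrArg φ.hom hd
  rw [map_mul, map_mul, map_mul, hφ a, hφ c] at h5
  -- ψ a = ψ a * ψ c * φ d
  have h6 : ψ c * φ.hom d = 1 := by
    have : ψ a * 1 = ψ a * (ψ c * φ.hom d) := by
      rw [mul_one, ← mul_assoc]
      exact h5
    exact (mul_left_cancel₀ h1 this).symm
  exact h2 (IsUnit.of_mul_eq_one _ h6)

theorem main19335 (I J : X.IdealSheafData)
    (hI : BlowUp.IsEffCartierIdeal I) (hJ : BlowUp.IsEffCartierIdeal J) (hJI : J ≤ I)
    (h : ∀ (R : Type u) [CommRing R] [IsDomain R] [ValuationRing R]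
      (p : Spec (CommRingCat.of R) ⟶ X), BlowUp.IsEffCartierIdeal (I.comap p) →
        (∀ x : Spec (CommRingCat.of R),
          x ∈ (ModPair.interior (I.comap p) : Set (Spec (CommRingCat.of R))) ↔ x.asIdeal = ⊥) →
        I.comap p = J.comap p) :
    I = J := by
  refine le_antisymm ?_ hJI
  have key : ∀ x : X, ∃ U : X.affineOpens, x ∈ U.1 ∧ I.ideal U ≤ J.ideal U := by
    intro x
    obtain ⟨U, hxU, f, hf, hIf⟩ := hI x
    obtain ⟨V, hxV, hVU, g, hg, hJg⟩ := EffCartier.shrink hJ x U.1 hxU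
    obtain ⟨hf', hIf'⟩ := EffCartier.restrict I U f hf hIf V hVU
    exact ⟨V, hxV, local_claim I J hJI h V _ g hf' hIf' hJg⟩
  choose U hxU hU using key
  refine Scheme.IdealSheafData.le_of_iSup_eq_top U ?_ hU
  rw [eq_top_iff]
  intro x _
  exact Opens.mem_iSup.mpr ⟨x, hxU x⟩

end Groth.Agent.Helper2.ModPairV
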